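import Cfsg.Agent.H614.Nakayama
import Cfsg.Agent.H614.Height
import Cfsg.Agent.H615.AltConj

/-!
# S4791 + S4927: beta-numbers with one long hook added to the core of a row (helper963)

`kp n s` : the beta-numbers (`n` of them) of the partition `(s)`; `bt n s N k` : the `k`-th largest of them raised by `N`.
* `FM_bt` : `FM (p^m + t) (bt n s (m p) k) = FM t (kp n s)` if `s + k ≠ p`, `k < p`;
* `FM_kp` : the value `1`;
* `range_bt_ne`, `range_bt_ne_refl` : the ranges differ, also up to reflection.
-/

set_option autoImplicit false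

namespace Cfsg.Agent.H963.XZ

open Finset Cfsg Cfsg.Agent.H614 Cfsg.Agent.H615.AltRefl Cfsg.Agent.H615.AltConj

/-- the beta-numbers of a row of length `s` -/
def kp (n s : ℕ) : Fin n → ℕ := fun i => if (i : ℕ) + 1 = n then s + i else i

theorem kp_last {n s : ℕ} (i : Fin n) (h : (i : ℕ) + 1 = n) : kp n s i = s + i := if_pos h

theorem kp_lt {n s : ℕ} (i : Fin n) (h : (i : ℕ) + 1 ≠ n) : kp n s i = i := if_neg h

theorem kp_injective (n s : ℕ) : Function.Injective (kp n s) := by
  intro a b hab
  have ha := a.2
  have hb := b.2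
  unfold kp at hab
  apply Fin.ext
  split_ifs at hab <;> omega

theorem sum_kp {n : ℕ} (hn : 0 < n) (s : ℕ) : ∑ i, kp n s i = s + ∑ i : Fin n, (i : ℕ) := by
  have h : ∀ i : Fin n, kp n s i = (i : ℕ) + if i = ⟨n - 1, by omega⟩ then s else 0 := by
    intro i
    unfold kp
    have hi : i = ⟨n - 1, by omega⟩ ↔ (i : ℕ) + 1 = n := by
      rw [Fin.ext_iff]
      have := i.2
      change (i : ℕ) = n - 1 ↔ _
      omega
    by_cases h1 : (i : ℕ) + 1 = n
    · rw [if_pos h1, if_pos (hi.2 h1)]
      omega
    · rw [if_neg h1, if_neg (fun h => h1 (hi.1 h))]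
      rfl
  rw [Finset.sum_congr rfl fun i _ => h i, Finset.sum_add_distrib, Finset.sum_ite_eq' univ, if_pos (mem_univ _)]
  omega

/-- the row: the trivial character -/
theorem FM_kp {n : ℕ} (hn : 0 < n) (t : Multiset ℕ) (ht : ∀ r ∈ t, 0 < r) : FM t (kp n t.sum) = 1 := by
  induction t using Multiset.induction_on with
  | empty =>
    have h : kp n (0 : Multiset ℕ).sum = fun i : Fin n => (i : ℕ) := by
      funext i
      rw [Multiset.sum_zero]
      unfold kp
      split_ifs <;> omega
    rw [h, FM_zero, vac_eq_pair, pair_self_of_strictMono (fun i j h => h)]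
  | cons r t ih =>
    have hr : 0 < r := ht r (Multiset.mem_cons_self r t)
    rw [Multiset.sum_cons, FM_cons, Finset.sum_eq_single (⟨n - 1, by omega⟩ : Fin n)]
    · have h1 : kp n (r + t.sum) ⟨n - 1, by omega⟩ = (r + t.sum) + (n - 1) := kp_last _ (by change n - 1 + 1 = n; omega)
      rw [if_pos (by rw [h1]; omega)]
      have h2 : dn (kp n (r + t.sum)) ⟨n - 1, by omega⟩ r = kp n t.sum := by
        funext i
        by_cases hi : i = ⟨n - 1, by omega⟩
        · subst hi
          rw [dn_self, h1, kp_last _ (by change n - 1 + 1 = n; omega)]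
          change _ = _ + (n - 1)
          omega
        · have hi' : (i : ℕ) + 1 ≠ n := by
            intro h
            apply hi
            apply Fin.ext
            change (i : ℕ) = n - 1
            omega
          rw [dn_ne _ _ hi, kp_lt i hi', kp_lt i hi']
      rw [h2]
      exact ih fun x hx => ht x (Multiset.mem_cons_of_mem hx)
    · intro i _ hi
      have hi' : (i : ℕ) + 1 ≠ n := by
        intro h
        apply hi
        apply Fin.ext
        change (i : ℕ) = n - 1
        omega
      split_ifs with h1
      · apply FM_eq_zero_of_not_injective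
        intro hinj
        rw [kp_lt i hi'] at h1
        have hi2 := i.2
        let i' : Fin n := ⟨i - r, by omega⟩
        have hne : i' ≠ i := by
          intro h
          have := congrArg Fin.val h
          change (i : ℕ) - r = i at this
          omega
        apply hne
        apply hinj
        rw [dn_self, dn_ne _ _ hne, kp_lt i hi', kp_lt i' (by change (i : ℕ) - r + 1 ≠ n; omega)]
      · rfl
    · intro h
      exact absurd (mem_univ _) h

/-- the index of the `k`-th largest entry -/
def jx (n k : ℕ) (h : k < n) : Fin n := ⟨n - 1 - k, by omega⟩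

theorem jx_val (n k : ℕ) (h : k < n) : ((jx n k h : Fin n) : ℕ) = n - 1 - k := rfl

/-- the `k`-th largest entry raised by `N` -/
def bt (n s N k : ℕ) (h : k < n) : Fin n → ℕ := up (kp n s) (jx n k h) N

theorem bt_self (n s N k : ℕ) (h : k < n) : bt n s N k h (jx n k h) = kp n s (jx n k h) + N := up_self _ _ _

theorem bt_ne (n s N k : ℕ) (h : k < n) {i : Fin n} (hi : i ≠ jx n k h) : bt n s N k h i = kp n s i := up_ne _ _ hi

theorem sum_bt (n s N k : ℕ) (h : k < n) : ∑ i, bt n s N k h i = s + N + ∑ i : Fin n, (i : ℕ) := by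
  unfold bt
  rw [sum_up, sum_kp (by omega)]
  omega

/-- **the Murnaghan-Nakayama rule**: all hooks of length `p` come off the long one -/
theorem FM_bt {n s p k : ℕ} (hs : s < p) (hk : k < p) (hpn : p ≤ n) (hsk : s + k ≠ p) (h : k < n) (m : ℕ) (t : Multiset ℕ) :
    FM (Multiset.replicate m p + t) (bt n s (m * p) k h) = FM t (kp n s) := by
  induction m with
  | zero =>
    rw [Multiset.replicate_zero, zero_add, zero_mul]
    congr 1
    funext i
    by_cases hi : i = jx n k h
    · subst hi
      rw [bt_self, add_zero]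
    · rw [bt_ne _ _ _ _ _ hi]
  | succ m ih =>
    rw [Multiset.replicate_succ, Multiset.cons_add, FM_cons, Finset.sum_eq_single (jx n k h)]
    · rw [if_pos (by rw [bt_self, add_mul]; omega), ← ih]
      congr 1
      funext i
      by_cases hi : i = jx n k h
      · subst hi
        rw [dn_self, bt_self, bt_self, add_mul]
        omega
      · rw [dn_ne _ _ hi, bt_ne _ _ _ _ _ hi, bt_ne _ _ _ _ _ hi]
    · intro i _ hi
      split_ifs with h1
      · apply FM_eq_zero_of_not_injective
        intro hinj
        rw [bt_ne _ _ _ _ _ hi] at h1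
        have hi2 := i.2
        have hj : (i : ℕ) ≠ n - 1 - k := fun h' => hi (Fin.ext h')
        obtain ⟨i', h2, h3, h4⟩ : ∃ i' : Fin n, i' ≠ i ∧ i' ≠ jx n k h ∧ kp n s i' = kp n s i - p := by
          by_cases hl : (i : ℕ) + 1 = n
          · rw [kp_last i hl] at h1 ⊢
            refine ⟨⟨s + i - p, by omega⟩, ?_, ?_, ?_⟩
            · intro h'
              have := congrArg Fin.val h'
              change s + (i : ℕ) - p = i at this
              omega
            · intro h'
              have := congrArg Fin.val h'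
              change s + (i : ℕ) - p = n - 1 - k at this
              omega
            · rw [kp_lt]
              change s + (i : ℕ) - p + 1 ≠ n
              omega
          · rw [kp_lt i hl] at h1 ⊢
            refine ⟨⟨i - p, by omega⟩, ?_, ?_, ?_⟩
            · intro h'
              have := congrArg Fin.val h'
              change (i : ℕ) - p = i at this
              omega
            · intro h'
              have := congrArg Fin.val h'
              change (i : ℕ) - p = n - 1 - k at this
              omega
            · rw [kp_lt]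
              change (i : ℕ) - p + 1 ≠ n
              omega
        apply h2
        apply hinj
        rw [dn_self, dn_ne _ _ h2, bt_ne _ _ _ _ _ h3, bt_ne _ _ _ _ _ hi, h4]
      · rfl
    · intro h'
      exact absurd (mem_univ _) h'

theorem range_bt_ne {n s N k l : ℕ} (hN : 0 < N) (hk : k < n) (hl : l < n) (hkl : k ≠ l) :
    Set.range (bt n s N k hk) ≠ Set.range (bt n s N l hl) := by
  intro he
  have hj : jx n k hk ≠ jx n l hl := by
    intro h
    have := congrArg Fin.val h
    rw [jx_val, jx_val] at this
    omega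
  have h1 : kp n s (jx n k hk) ∈ Set.range (bt n s N l hl) := ⟨jx n k hk, bt_ne _ _ _ _ _ hj⟩
  rw [← he] at h1
  obtain ⟨i, hi⟩ := h1
  by_cases hij : i = jx n k hk
  · rw [hij, bt_self] at hi
    omega
  · rw [bt_ne _ _ _ _ _ hij] at hi
    exact hij (kp_injective _ _ hi)

/-- the long entry -/
theorem mem_range_bt {n s N k l p : ℕ} (hn : n = s + N) (hs : s < p) (hNp : 2 * p ≤ N) (hkp : k < p) (hlp : l < p)
    (hk : k < n) (hl : l < n) :
    bt n s N k hk (jx n k hk) < n + n ∧
      n + n - 1 - bt n s N k hk (jx n k hk) ∈ Set.range (bt n s N l hl) := by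
  have h1 : bt n s N k hk (jx n k hk) = (if k = 0 then s else 0) + (n - 1 - k) + N := by
    rw [bt_self]
    by_cases h0 : k = 0
    · subst h0
      rw [if_pos rfl, kp_last]
      · rfl
      · rw [jx_val]
        omega
    · rw [if_neg h0, kp_lt]
      · rw [jx_val]
        omega
      · rw [jx_val]
        omega
  obtain ⟨b, hb, hb2⟩ : ∃ b : ℕ, n + n - 1 - bt n s N k hk (jx n k hk) = b ∧ b ≤ s + k := by
    refine ⟨_, rfl, ?_⟩
    rw [h1]
    split_ifs <;> omega
  refine ⟨by rw [h1]; split_ifs <;> omega, ?_⟩
  rw [hb]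
  refine ⟨⟨b, by omega⟩, ?_⟩
  rw [bt_ne]
  · rw [kp_lt]
    change b + 1 ≠ n
    omega
  · intro h
    have := congrArg Fin.val h
    rw [jx_val] at this
    change b = _ at this
    omega

theorem range_bt_ne_refl {n s N k l p : ℕ} (hn : n = s + N) (hs : s < p) (hNp : 2 * p ≤ N) (hkp : k < p) (hlp : l < p)
    (hk : k < n) (hl : l < n) {γ γ' : Fin n → ℕ} (hγ : Set.range γ = Set.range (bt n s N l hl)) (h : IsRefl γ γ') :
    Set.range (bt n s N k hk) ≠ Set.range γ' := by
  intro he
  obtain ⟨h1, h2⟩ := mem_range_bt hn hs hNp hkp hlp hk hl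
  have h3 : bt n s N k hk (jx n k hk) ∈ Set.range γ' := he ▸ ⟨_, rfl⟩
  have h4 := h.iff (n + n - 1 - bt n s N k hk (jx n k hk)) (by omega)
  rw [hγ] at h4
  refine h4.1 h2 ?_
  have h5 : n + n - 1 - (n + n - 1 - bt n s N k hk (jx n k hk)) = bt n s N k hk (jx n k hk) := by omega
  rwa [h5]

theorem bt_injective {n s N k p : ℕ} (hn : n = s + N) (hs : s < p) (hNp : 2 * p ≤ N) (hkp : k < p)
    (hk : k < n) : Function.Injective (bt n s N k hk) := by
  have h0 : ∀ i : Fin n, i ≠ jx n k hk → kp n s i < kp n s (jx n k hk) + N := by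
    intro i hi
    have hi2 := i.2
    have hi3 : (i : ℕ) ≠ n - 1 - k := fun h => hi (Fin.ext h)
    have h1 : kp n s i ≤ s + i := by
      unfold kp
      split_ifs <;> omega
    have h2 : (jx n k hk : ℕ) ≤ kp n s (jx n k hk) := by
      unfold kp
      split_ifs <;> omega
    rw [jx_val] at h2
    omega
  intro a b hab
  by_cases ha : a = jx n k hk
  · by_cases hb : b = jx n k hk
    · rw [ha, hb]
    · rw [ha, bt_self, bt_ne _ _ _ _ _ hb] at hab
      have := h0 b hb
      omega
  · by_cases hb : b = jx n k hk
    · rw [hb, bt_self, bt_ne _ _ _ _ _ ha] at hab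
      have := h0 a ha
      omega
    · rw [bt_ne _ _ _ _ _ ha, bt_ne _ _ _ _ _ hb] at hab
      exact kp_injective _ _ hab

theorem pair_eq_zero_of_range {n : ℕ} {β γ : Fin n → ℕ} (h : Set.range β ≠ Set.range γ) : pair β γ = 0 := by
  unfold pair
  refine Finset.sum_eq_zero fun σ _ => if_neg ?_
  rintro rfl
  apply h
  rw [Set.range_comp]
  simp

end Cfsg.Agent.H963.XZ
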