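import Cfsg.Agent.H674.XZ.Base
import Cfsg.Agent.H668.XZ.Defs
import Cfsg.Agent.CharactersDeep.ModCongr
import Cfsg.Agent.Blocks.Fong

/-!
# S4791 + S4927: the local form of the functional `F` (helper963)

* `FV_of_local` : a generalized character `ψ`, fixed by the exponents in `JJ p G`, with `ψ(g) ≡ c` modulo the local ideal
  for the `p`-regular elements `g` of `C_G(Q)`, `Q` a `p`-subgroup: `F(ψ) = c`;
* `FV_of_int` : integer valued `ψ`, `ψ(z g) = c` for a fixed element `z` of `Q`;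
* `le_kap0` : disjoint, `A`-invariant `ψ_i` with `F(ψ_i) ≠ 0` : at most `kap0 p M T` of them.
-/

set_option autoImplicit false

open scoped ComplexConjugate

namespace Cfsg.Agent.H963.XZ

open Cfsg Cfsg.Agent.Characters Cfsg.Agent.Characters.Core Cfsg.Agent.H674.XZ Cfsg.Agent.Blocks.Local

universe u v

theorem sum_eq_zero_of_fixed {p : ℕ} [hp : Fact p.Prime] {Q : Type*} [Group Q] [Finite Q] (hQ : IsPGroup p Q) {X : Type*}
    [Fintype X] (act : Q →* Equiv.Perm X) {K : Type*} [CommRing K] [CharP K p] (f : X → K)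
    (hf : ∀ (q : Q) (x : X), f (act q x) = f x) (h0 : ∀ x, (∀ q : Q, act q x = x) → f x = 0) : ∑ x, f x = 0 := by
  classical
  rw [← Finset.sum_fiberwise_of_maps_to (s := Finset.univ) (t := Finset.univ.image f) (g := f)
    (fun i _ => Finset.mem_image_of_mem _ (Finset.mem_univ _))]
  refine Finset.sum_eq_zero fun a _ => ?_
  rw [Finset.sum_congr rfl (fun x hx => (Finset.mem_filter.1 hx).2), Finset.sum_const, nsmul_eq_mul]
  by_cases ha : a = 0
  · rw [ha, mul_zero]
  · have h1 : p ∣ (Finset.univ.filter (fun x => f x = a)).card := by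
      let ac : MulAction Q {x : X // f x = a} :=
        { smul := fun q y => ⟨act q y.1, by rw [hf]; exact y.2⟩
          one_smul := fun y => Subtype.ext (by
            change act 1 y.1 = y.1
            rw [map_one]; rfl)
          mul_smul := fun q r y => Subtype.ext (by
            change act (q * r) y.1 = act q (act r y.1)
            rw [map_mul]; rfl) }
      have h2 := hQ.card_modEq_card_fixedPoints {x : X // f x = a}
      have h3 : IsEmpty (MulAction.fixedPoints Q {x : X // f x = a}) := by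
        constructor
        rintro ⟨y, hy⟩
        have h4 : f y.1 = 0 := h0 y.1 fun q => congrArg Subtype.val (hy q)
        rw [y.2] at h4
        exact ha h4
      rw [Nat.card_of_isEmpty (α := MulAction.fixedPoints Q {x : X // f x = a})] at h2
      have h5 : Nat.card {x : X // f x = a} = (Finset.univ.filter (fun x => f x = a)).card := by
        rw [Nat.card_eq_fintype_card, Fintype.card_subtype]
      rw [← h5]
      exact (Nat.modEq_zero_iff_dvd).1 h2
    rw [(CharP.cast_eq_zero_iff K p _).2 h1, zero_mul]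

variable {p : ℕ} {M : Ideal AlgInt} {G : Type u} [Group G] [Finite G]

theorem sum_blockCoeff [Fintype G] {ψ : G → ℂ} {m : IrrCharacter G → ℤ}
    (hm : ∀ χ : IrrCharacter G, ip ψ (χ : G → ℂ) = m χ) :
    ∑ g : G, blockCoeff (principalBlock M G) g * ψ g = (bsum M m : ℂ) := by
  classical
  have hfin : Finite (IrrCharacter G) := finite_irr
  let _ : Fintype (IrrCharacter G) := Fintype.ofFinite _
  have h3 : ∀ g : G, blockCoeff (principalBlock M G) g = (Nat.card G : ℂ)⁻¹ *
      ∑ χ : IrrCharacter G, if χ ∈ principalBlock M G then (χ : G → ℂ) 1 * conj ((χ : G → ℂ) g) else 0 :=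
    fun h => Cfsg.Agent.Blocks.Osima.blockCoeff_eq_sum _ _
  have h4 : ∀ g : G, blockCoeff (principalBlock M G) g * ψ g =
      ∑ χ : IrrCharacter G, if χ ∈ principalBlock M G then
        (χ : G → ℂ) 1 * ((Nat.card G : ℂ)⁻¹ * (ψ g * conj ((χ : G → ℂ) g))) else 0 := by
    intro g
    rw [h3, Finset.mul_sum, Finset.sum_mul]
    refine Finset.sum_congr rfl fun χ _ => ?_
    split_ifs
    · ring
    · ring
  rw [Finset.sum_congr rfl fun g _ => h4 g, Finset.sum_comm]
  unfold bsum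
  push_cast
  refine Finset.sum_congr rfl fun χ _ => ?_
  split_ifs
  · rw [← Finset.mul_sum, ← Finset.mul_sum, ← classInner_def, ← ip_eq, hm, H667.BR.charDegree_cast]
    ring
  · rw [Finset.sum_const_zero]

theorem exists_int_mult {ψ : G → ℂ} (hψ : IsGeneralizedCharacter G ψ) :
    ∃ m : IrrCharacter G → ℤ, ∀ χ : IrrCharacter G, ip ψ (χ : G → ℂ) = m χ := by
  obtain ⟨χ₁, χ₂, h₁, h₂, rfl⟩ := hψ
  choose a ha using fun χ : IrrCharacter G => ip_nat h₁ (isIrr_isCharacter χ.2)
  choose b hb using fun χ : IrrCharacter G => ip_nat h₂ (isIrr_isCharacter χ.2)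
  refine ⟨fun χ => (a χ : ℤ) - b χ, fun χ => ?_⟩
  rw [ip_sub, ha, hb]
  push_cast
  rfl

theorem local_gen [M.IsPrime] {ψ : G → ℂ} (hψ : IsGeneralizedCharacter G ψ) (g : G) : MemLocalRing M (ψ g) := by
  obtain ⟨χ₁, χ₂, h₁, h₂, rfl⟩ := hψ
  exact memLocalRing_sub (memLocalRing_of_isIntegral (GaloisBasic.isIntegral_apply h₁ g))
    (memLocalRing_of_isIntegral (GaloisBasic.isIntegral_apply h₂ g))

omit [Finite G] in
theorem class_gen {ψ : G → ℂ} (hψ : IsGeneralizedCharacter G ψ) : IsClassFunction G ψ := by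
  obtain ⟨χ₁, χ₂, h₁, h₂, rfl⟩ := hψ
  intro g h
  rw [Pi.sub_apply, Pi.sub_apply, isCharacter_isClassFunction h₁ g h, isCharacter_isClassFunction h₂ g h]

/-- **The local form of the functional.** -/
theorem FV_of_local [hp : Fact p.Prime] (hM : IsPModular p M) {Q : Subgroup G} (hQ : IsPGroup p Q) {ψ : G → ℂ}
    (hψ : IsGeneralizedCharacter G ψ) (hinv : ∀ w ∈ JJ p G, ∀ g : G, ψ (g ^ ex w) = ψ g) {c : ℤ}
    (h : ∀ g : G, ¬ p ∣ orderOf g → (∀ q ∈ Q, q * g = g * q) → MemLocalIdeal M (ψ g - c)) : FV p M ψ c := by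
  classical
  let _ := Fintype.ofFinite G
  have hMp : M.IsPrime := hM.2.1.isPrime
  have hchar : CharP (ResField M) p := charP_resField hM
  have hB : IsPBlock M (principalBlock M G) :=
    ⟨⟨fun _ => 1, Cfsg.Agent.Blocks.Basic.isIrrCharacter_one⟩, rfl⟩
  obtain ⟨m, hm⟩ := exists_int_mult hψ
  refine ⟨hinv, m, hm, ?_⟩
  have hR : ∀ g : G, MemLocalRing M (blockCoeff (principalBlock M G) g * (ψ g - c)) := fun g =>
    memLocalRing_mul (Cfsg.Agent.Blocks.Osima.memLocalRing_blockCoeff hM hB g)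
      (memLocalRing_sub (local_gen hψ g) (memLocalRing_intCast c))
  have h1 : ∑ g : G, redC M (blockCoeff (principalBlock M G) g * (ψ g - c)) = 0 := by
    refine sum_eq_zero_of_fixed hQ ((MulAut.toPerm G).comp (MulAut.conj.comp Q.subtype)) _ (fun q g => ?_) fun g hg => ?_
    · change redC M (blockCoeff (principalBlock M G) (q * g * (q : G)⁻¹) * (ψ (q * g * (q : G)⁻¹) - c)) = _
      rw [Cfsg.Agent.Blocks.Osima.isClassFunction_blockCoeff _ g (q : G), class_gen hψ g (q : G)]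
    · have h2 : ∀ q ∈ Q, q * g = g * q := by
        intro q hq
        have h3 : q * g * q⁻¹ = g := hg ⟨q, hq⟩
        rw [mul_inv_eq_iff_eq_mul] at h3
        exact h3
      rw [redC_eq_zero_iff (hR g)]
      by_cases h3 : p ∣ orderOf g
      · have h4 : blockCoeff (principalBlock M G) g = 0 := by
          rw [Cfsg.Agent.Blocks.Basic.blockCoeff_def,
            Cfsg.Agent.S0907.result p M hM _ hB 1 g (by rw [orderOf_one]; exact hp.out.not_dvd_one) h3, mul_zero]
        rw [h4, zero_mul]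
        exact memLocalIdeal_zero
      · exact memLocalIdeal_mul_left (Cfsg.Agent.Blocks.Osima.memLocalRing_blockCoeff hM hB g) (h g h3 h2)
  rw [← redC_sum (fun g _ => hR g), redC_eq_zero_iff (memLocalRing_sum fun g _ => hR g)] at h1
  have h2 : ∑ g : G, blockCoeff (principalBlock M G) g * (ψ g - c) = (((bsum M m - c : ℤ)) : ℂ) := by
    have h3 : ∀ g : G, blockCoeff (principalBlock M G) g * (ψ g - c) =
        blockCoeff (principalBlock M G) g * ψ g - c * (blockCoeff (principalBlock M G) g *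
          ((⟨fun _ => 1, Cfsg.Agent.Blocks.Basic.isIrrCharacter_one⟩ : IrrCharacter G) : G → ℂ) g) := by
      intro g
      change _ = _ - c * (_ * (1 : ℂ))
      ring
    rw [Finset.sum_congr rfl fun g _ => h3 g, Finset.sum_sub_distrib, ← Finset.mul_sum, sum_blockCoeff hm,
      Cfsg.Agent.Blocks.Fong.sum_blockCoeff_mul, if_pos]
    · change _ - (c : ℂ) * (1 : ℂ) = _
      push_cast
      ring
    · exact Cfsg.Agent.Blocks.Basic.mem_blockOf_self (M := M)
        (⟨fun _ => 1, Cfsg.Agent.Blocks.Basic.isIrrCharacter_one⟩ : IrrCharacter G)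
  rw [h2, memLocalIdeal_intCast_iff hM] at h1
  exact (Int.modEq_iff_dvd.2 (by rw [← neg_sub, Int.dvd_neg]; exact h1))

/-- characters are congruent along a `p`-element -/
theorem char_congr [hp : Fact p.Prime] (hM : IsPModular p M) {ψ : G → ℂ} (hψ : IsCharacter G ψ) {z g : G}
    (hz : ∃ k : ℕ, orderOf z = p ^ k) (hg : ¬ p ∣ orderOf g) (hc : z * g = g * z) :
    MemLocalIdeal M (ψ (z * g) - ψ g) := by
  classical
  have hMp : M.IsPrime := hM.2.1.isPrime
  have hfin : Finite (IrrCharacter G) := finite_irr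
  let _ : Fintype (IrrCharacter G) := Fintype.ofFinite _
  obtain ⟨b, hb⟩ := exists_nat_comb hψ
  have h1 : ∀ x : G, ψ x = ∑ χ : IrrCharacter G, (b χ : ℂ) * (χ : G → ℂ) x := by
    intro x
    conv_lhs => rw [hb]
    rw [Finset.sum_apply]
    refine Finset.sum_congr rfl fun χ _ => ?_
    rw [Pi.smul_apply, nsmul_eq_mul]
  rw [h1, h1, ← Finset.sum_sub_distrib]
  refine memLocalIdeal_sum fun χ _ => ?_
  rw [← mul_sub]
  refine memLocalIdeal_mul_left (memLocalRing_natCast _) ?_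
  have h2 := CharactersDeep.ModCongr.memLocalIdeal_character_sub hM χ.2 (z * g) z ⟨g, rfl, hc, hz, hg⟩
  rwa [inv_mul_cancel_left] at h2

theorem gen_congr [hp : Fact p.Prime] (hM : IsPModular p M) {ψ : G → ℂ} (hψ : IsGeneralizedCharacter G ψ) {z g : G}
    (hz : ∃ k : ℕ, orderOf z = p ^ k) (hg : ¬ p ∣ orderOf g) (hc : z * g = g * z) :
    MemLocalIdeal M (ψ (z * g) - ψ g) := by
  have hMp : M.IsPrime := hM.2.1.isPrime
  obtain ⟨χ₁, χ₂, h₁, h₂, rfl⟩ := hψ
  have h3 := memLocalIdeal_sub (char_congr hM h₁ hz hg hc) (char_congr hM h₂ hz hg hc)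
  have h4 : (χ₁ - χ₂) (z * g) - (χ₁ - χ₂) g = (χ₁ (z * g) - χ₁ g) - (χ₂ (z * g) - χ₂ g) := by
    rw [Pi.sub_apply, Pi.sub_apply]
    ring
  rw [h4]
  exact h3

/-- integer valued generalized characters are fixed by all exponents -/
theorem inv_of_int {ψ : G → ℂ} (hψ : IsGeneralizedCharacter G ψ) (hint : ∀ g, ∃ z : ℤ, ψ g = z)
    (w : (ZMod (Nat.card G))ˣ) (g : G) : ψ (g ^ ex w) = ψ g := by
  obtain ⟨σ, hσ⟩ := exists_aut w
  obtain ⟨χ₁, χ₂, h₁, h₂, rfl⟩ := hψ
  obtain ⟨z, hz⟩ := hint g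
  have h3 : σ ((χ₁ - χ₂) g) = (χ₁ - χ₂) (g ^ ex w) := by
    rw [Pi.sub_apply, Pi.sub_apply, map_sub, hσ _ h₁, hσ _ h₂]
  rw [← h3, hz]
  exact map_intCast σ z

/-- **The local form**, integer valued functions. -/
theorem FV_of_int [hp : Fact p.Prime] (hM : IsPModular p M) {Q : Subgroup G} (hQ : IsPGroup p Q) {ψ : G → ℂ}
    (hψ : IsGeneralizedCharacter G ψ) (hint : ∀ g, ∃ z : ℤ, ψ g = z) {c : ℤ} {z : G} (hz : z ∈ Q)
    (h : ∀ g : G, ¬ p ∣ orderOf g → (∀ q ∈ Q, q * g = g * q) → ψ (z * g) = c) : FV p M ψ c := by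
  have hMp : M.IsPrime := hM.2.1.isPrime
  refine FV_of_local hM hQ hψ (fun w _ g => inv_of_int hψ hint w g) fun g hg hgQ => ?_
  have hz' : ∃ k : ℕ, orderOf z = p ^ k := by
    obtain ⟨k, hk⟩ := (IsPGroup.iff_orderOf.1 hQ) ⟨z, hz⟩
    exact ⟨k, by rw [← hk, Subgroup.orderOf_mk]⟩
  have h1 := gen_congr hM hψ hz' hg (hgQ z hz)
  rw [h g hg hgQ] at h1
  rw [← neg_sub, memLocalIdeal_neg_iff]
  exact h1

/-- **The count up to conjugation.** -/
theorem le_kap0 [hp : Fact p.Prime] {A : Type u} [Group A] [Finite A] (T : Subgroup A) [T.Normal] {ι : Type*}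
    {ψ : ι → T → ℂ} {c : ι → ℤ} (h : ∀ i, FV p M (ψ i) (c i)) (hc : ∀ i, ¬ (p : ℤ) ∣ c i)
    (hinv : ∀ i (a : A) (s : T), ψ i (MulAut.conjNormal a s) = ψ i s)
    (hd : ∀ i j, i ≠ j → ∀ χ : IrrCharacter T, ip (ψ i) (χ : T → ℂ) = 0 ∨ ip (ψ j) (χ : T → ℂ) = 0) :
    Nat.card ι ≤ H668.XZ.kap0 p M T := by
  have hfin := finite_mem0 (p := p) (M := M) (G := T)
  have : Finite (Quotient (H668.XZ.orbSetoid0 p M T)) := Quotient.finite _
  choose χ h1 h2 using fun i => (h i).exists_mem0 (hc i)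
  refine Nat.card_le_card_of_injective
    (fun i => (Quotient.mk (H668.XZ.orbSetoid0 p M T) ⟨χ i, h1 i⟩)) ?_
  intro i j hij
  obtain ⟨a, ha⟩ : ∃ a : A, ∀ s : T, (χ j : T → ℂ) s = (χ i : T → ℂ) (MulAut.conjNormal a s) := Quotient.exact hij
  by_contra hne
  have h3 : ip (ψ j) (χ j : T → ℂ) = ip (ψ j) (χ i : T → ℂ) := by
    have := Fintype.ofFinite T
    rw [ip_eq, ip_eq, classInner_def, classInner_def]
    congr 1
    refine Fintype.sum_equiv (MulAut.conjNormal a : MulAut T).toEquiv _ _ fun s => ?_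
    change ψ j s * conj ((χ j : T → ℂ) s) = ψ j (MulAut.conjNormal a s) * conj ((χ i : T → ℂ) (MulAut.conjNormal a s))
    rw [ha, hinv]
  rcases hd i j hne (χ i) with h4 | h4
  · exact h2 i h4
  · rw [← h3] at h4
    exact h2 j h4

end Cfsg.Agent.H963.XZ
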