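import Cfsg.Agent.H963.XZ.Loc
import Cfsg.Agent.H963.XZ.Bt
import Cfsg.Agent.H614.AltBlk
import Cfsg.Agent.H614.DefAlt
import Cfsg.Agent.H668.XZ.C2
import Cfsg.Agent.H328.KB.AltRow
import Cfsg.Agent.S2119

/-!
# S4791 + S4927: the alternating groups (helper963)

* `FV_ch` : `F(χ_k) = 1` for the `k`-th family member, restricted to the alternating group;
* `ip_ch_eq_zero` : the restrictions are orthogonal;
* `le_kap0_alt`, `row0_alt`.
-/

set_option autoImplicit false

open scoped ComplexConjugate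

namespace Cfsg.Agent.H963.XZ

open Finset Cfsg Cfsg.Agent.H614 Cfsg.Agent.H615.AltRefl Cfsg.Agent.H615.AltConj Cfsg.Agent.Characters.Core
  Cfsg.Agent.H674.XZ

universe u v

variable {p : ℕ} [hp : Fact p.Prime] {M : Ideal AlgInt} {T : Type u} [Group T] [Finite T]
  {α : Type v} [Fintype α] [DecidableEq α]

omit [Finite T] in
theorem gen_comp {f : T →* Equiv.Perm α} {n : ℕ} (β : Fin n → ℕ) : IsGeneralizedCharacter T (fun t => ch α β (f t)) := by
  obtain ⟨χ₁, χ₂, h₁, h₂, h⟩ := isGeneralizedCharacter_ch (α := α) β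
  refine ⟨_, _, isCharacter_comp f h₁, isCharacter_comp f h₂, ?_⟩
  rw [h]
  rfl

/-- **the functional** -/
theorem FV_ch (hM : IsPModular p M) (hp2 : p ≠ 2) {f : T →* Equiv.Perm α} (hf : Function.Injective f)
    (hr : f.range = alternatingGroup α) {s m k n : ℕ} (hn : n = s + m * p) (hα : Fintype.card α = n) (hs : s < p)
    (hk : k < p) (hsk : s + k ≠ p) (hm : 1 ≤ m) (hkn : k < n) :
    FV p M (fun t => ch α (bt n s (m * p) k hkn) (f t)) 1 := by
  classical
  have hpos := hp.out.pos
  obtain ⟨z, hz⟩ := exists_cycleType (α := α) (p := p) (w := m) (by rw [hα, hn, mul_comm]; omega)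
  have hzp := pow_eq_one_of_cycleType hz
  have hcyc : IsPGroup p (cyc z) := isPGroup_cyc hzp
  have hle : cyc z ≤ alternatingGroup α := le_alternating hp2 hcyc
  have hzc : z ∈ cyc z := ⟨rfl, fun y => ⟨1, rfl⟩⟩
  obtain ⟨z', hz'⟩ : z ∈ f.range := by
    rw [hr]
    exact hle hzc
  refine FV_of_int hM (Q := (cyc z).comap f) (hcyc.comap_of_injective f hf) (gen_comp _)
    (fun t => ⟨FM (ty (f t)) _, rfl⟩) (c := 1) (z := z') (by rw [Subgroup.mem_comap, hz']; exact hzc) ?_
  intro g hg hgQ
  have h1 : f g ∈ fixS z := by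
    refine mem_fixS_of_pRegular hp.out hzp (by rwa [orderOf_injective f hf]) fun e he => ?_
    obtain ⟨e', rfl⟩ : e ∈ f.range := by
      rw [hr]
      exact hle he
    rw [← map_mul, ← map_mul, hgQ e' he]
  rw [map_mul, hz']
  let y : (fixS z).subgroupOf (Subgroup.centralizer ({z} : Set (Equiv.Perm α))) :=
    ⟨⟨f g, fixS_le_centralizer z h1⟩, h1⟩
  have h2 := ty_mul z y
  change ty (z * f g) = _ at h2
  rw [ch_apply, h2, hz, FM_bt hs hk (by
    rw [hn]
    nlinarith) hsk hkn]
  have h3 : (ty (toFix z y)).sum = s := by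
    rw [ty_sum, card_fix, hz, hα, Multiset.sum_replicate, smul_eq_mul]
    omega
  have h4 := FM_kp (n := n) (by omega) (ty (toFix z y)) (ty_pos _)
  rw [h3] at h4
  rw [h4]

/-- the inner product on the alternating group -/
theorem ip_alt [Nontrivial α] {f : T →* Equiv.Perm α} (hf : Function.Injective f) (hr : f.range = alternatingGroup α)
    (φ ψ : Equiv.Perm α → ℂ) :
    ip (fun t => φ (f t)) (fun t => ψ (f t)) = classInner φ ψ + classInner φ (fun g => sgn g * ψ g) := by
  classical
  have := Fintype.ofFinite T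
  have hc : (Nat.card (Equiv.Perm α) : ℂ) = 2 * Nat.card T := by
    have e : T ≃ alternatingGroup α := ((MonoidHom.ofInjective hf).trans (MulEquiv.subgroupCongr hr)).toEquiv
    rw [Nat.card_congr e, ← two_mul_nat_card_alternatingGroup]
    push_cast
    rfl
  have hT : (Nat.card T : ℂ) ≠ 0 := card_ne_zero_complex
  rw [ip_eq, classInner_def, classInner_def, classInner_def, hc, ← mul_add, ← Finset.sum_add_distrib]
  have h1 : ∑ g : Equiv.Perm α, (φ g * conj (ψ g) + φ g * conj (sgn g * ψ g)) =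
      2 * ∑ t : T, φ (f t) * conj (ψ (f t)) := by
    have h2 : ∀ g : Equiv.Perm α, (φ g * conj (ψ g) + φ g * conj (sgn g * ψ g)) =
        if g ∈ alternatingGroup α then 2 * (φ g * conj (ψ g)) else 0 := by
      intro g
      rcases Int.units_eq_one_or (Equiv.Perm.sign g) with h | h
      · rw [if_pos (Equiv.Perm.mem_alternatingGroup.2 h)]
        unfold sgn
        rw [h]
        simp
        ring
      · rw [if_neg (by rw [Equiv.Perm.mem_alternatingGroup, h]; decide)]
        unfold sgn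
        rw [h]
        simp
    rw [Finset.sum_congr rfl fun g _ => h2 g, ← Finset.sum_filter, Finset.mul_sum,
      Finset.sum_subtype (univ.filter (fun g : Equiv.Perm α => g ∈ alternatingGroup α))
        (p := fun g => g ∈ alternatingGroup α) (by simp)]
    symm
    refine Fintype.sum_equiv ((MonoidHom.ofInjective hf).trans (MulEquiv.subgroupCongr hr)).toEquiv _ _ fun t => ?_
    rfl
  rw [h1]
  field_simp

/-- **orthogonality** -/
theorem ip_ch_eq_zero [Nontrivial α] {f : T →* Equiv.Perm α} (hf : Function.Injective f)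
    (hr : f.range = alternatingGroup α) {n : ℕ} (hα : Fintype.card α = n) {β γ : Fin n → ℕ}
    (hβ : ∑ i, β i = Fintype.card α + ∑ i : Fin n, (i : ℕ)) (hinj : Function.Injective γ)
    (hγ : ∑ i, γ i = Fintype.card α + ∑ i : Fin n, (i : ℕ)) (hne : Set.range β ≠ Set.range γ)
    (hne' : ∀ γ₀ γ' : Fin n → ℕ, Set.range γ₀ = Set.range γ → IsRefl γ₀ γ' → Set.range β ≠ Set.range γ') :
    ip (fun t => ch α β (f t)) (fun t => ch α γ (f t)) = 0 := by
  classical
  rw [ip_alt hf hr, classInner_ch hβ, pair_eq_zero_of_range hne, Int.cast_zero, zero_add]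
  set σ := Tuple.sort γ with hσ
  have hst : StrictMono (γ ∘ σ) := (Tuple.monotone_sort γ).strictMono_of_injective (hinj.comp σ.injective)
  have hsσ : ∑ i, (γ ∘ σ) i = Fintype.card α + ∑ i : Fin n, (i : ℕ) := by
    rw [← hγ]
    exact Equiv.sum_comp σ γ
  have hlt : ∀ i, (γ ∘ σ) i < n + n := lt_of_strictMono hst hsσ (by rw [hα])
  obtain ⟨γ', hst', href⟩ := exists_refl hst hlt
  have h1 : (fun g : Equiv.Perm α => sgn g * ch α γ g) = fun g => (sg σ : ℂ) * ch α γ' g := by
    funext g
    have h2 : ch α (γ ∘ σ) g = (sg σ : ℂ) * ch α γ g := by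
      rw [ch_apply, ch_apply, FM_alt, smul_eq_mul]
      push_cast
      rfl
    have h3 := ch_refl (α := α) href hst hst' hsσ g
    have h4 : (sg σ : ℂ) * (sg σ : ℂ) = 1 := by exact_mod_cast sg_mul_self σ
    have h5 := sgn_mul_self g
    have h6 : ch α γ g = (sg σ : ℂ) * (sgn g * ch α γ' g) := by
      rw [← h3, h2, ← mul_assoc, h4, one_mul]
    rw [h6]
    linear_combination ((sg σ : ℂ) * ch α γ' g) * h5
  have h7 : classInner (ch α β) (fun g => (sg σ : ℂ) * ch α γ' g) =
      (sg σ : ℂ) * classInner (ch α β) (ch α γ') := by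
    rw [classInner_def, classInner_def, Finset.mul_sum, Finset.mul_sum, Finset.mul_sum]
    refine Finset.sum_congr rfl fun g _ => ?_
    rw [map_mul, map_intCast]
    ring
  have hrange : Set.range (γ ∘ σ) = Set.range γ := by
    rw [Set.range_comp]
    simp
  rw [h1, h7, classInner_ch hβ, pair_eq_zero_of_range (hne' _ _ hrange href), Int.cast_zero, mul_zero]

omit [Finite T] in
/-- the members are characters up to sign -/
theorem exists_char {f : T →* Equiv.Perm α} {n : ℕ} {β : Fin n → ℕ} (hinj : Function.Injective β)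
    (hβ : ∑ i, β i = Fintype.card α + ∑ i : Fin n, (i : ℕ)) :
    ∃ β' : Fin n → ℕ, Set.range β' = Set.range β ∧ Function.Injective β' ∧
      ∑ i, β' i = Fintype.card α + ∑ i : Fin n, (i : ℕ) ∧ IsCharacter T (fun t => ch α β' (f t)) ∧
      ∃ ε : ℤ, (fun t => ch α β (f t)) = ε • (fun t => ch α β' (f t)) := by
  classical
  set σ := Tuple.sort β with hσ
  have hst : StrictMono (β ∘ σ) := (Tuple.monotone_sort β).strictMono_of_injective (hinj.comp σ.injective)
  have hsσ : ∑ i, (β ∘ σ) i = Fintype.card α + ∑ i : Fin n, (i : ℕ) := by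
    rw [← hβ]
    exact Equiv.sum_comp σ β
  refine ⟨β ∘ σ, by rw [Set.range_comp]; simp, hst.injective, hsσ, isCharacter_comp f (isIrr_isCharacter (isIrr_ch hst hsσ)),
    sg σ, ?_⟩
  funext t
  rw [Pi.smul_apply, zsmul_eq_mul, ch_apply, ch_apply, FM_alt, smul_eq_mul]
  have h4 : (sg σ : ℂ) * (sg σ : ℂ) = 1 := by exact_mod_cast sg_mul_self σ
  push_cast
  rw [← mul_assoc, h4, one_mul]

/-- **The alternating groups**: at least `p - 1` orbits. -/
theorem le_kap0_alt (hM : IsPModular p M) (hp2 : p ≠ 2) {m : ℕ} (h7 : 7 ≤ m) (hm : 2 * p ≤ m) {A : Type u} [Group A]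
    [Finite A] (T : Subgroup A) [T.Normal] (e : T ≃* alternatingGroup (Fin m)) :
    p - 1 ≤ H668.XZ.kap0 p M T := by
  classical
  have hpos := hp.out.pos
  have hnt : Nontrivial (Fin m) := Fin.nontrivial_iff_two_le.2 (by omega)
  obtain ⟨s, w, hs, hmw, hw⟩ : ∃ s w, s < p ∧ m = s + w * p ∧ 2 ≤ w := by
    refine ⟨m % p, m / p, Nat.mod_lt _ hpos, ?_, (Nat.le_div_iff_mul_le hpos).2 hm⟩
    have := Nat.div_add_mod m p
    rw [mul_comm] at this
    omega
  have hN : 2 * p ≤ w * p := Nat.mul_le_mul_right p hw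
  let f : T →* Equiv.Perm (Fin m) := (alternatingGroup (Fin m)).subtype.comp e.toMonoidHom
  have hf : Function.Injective f := (Subgroup.subtype_injective _).comp e.injective
  have hr : f.range = alternatingGroup (Fin m) := by
    rw [MonoidHom.range_comp, MonoidHom.range_eq_top.2 e.surjective, ← MonoidHom.range_eq_map, Subgroup.range_subtype]
  have hα : Fintype.card (Fin m) = m := Fintype.card_fin m
  let ι := {k : Fin p // s + k ≠ p}
  have hkn : ∀ k : ι, (k.1 : ℕ) < m := fun k => by have := k.1.2; omega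
  let ψ : ι → T → ℂ := fun k t => ch (Fin m) (bt m s (w * p) k.1 (hkn k)) (f t)
  have hsum : ∀ k : ι, ∑ i, bt m s (w * p) k.1 (hkn k) i = Fintype.card (Fin m) + ∑ i : Fin m, (i : ℕ) := by
    intro k
    rw [sum_bt, hα, ← hmw]
  have hinj : ∀ k : ι, Function.Injective (bt m s (w * p) k.1 (hkn k)) := fun k => bt_injective hmw hs hN k.1.2 (hkn k)
  have h1 : Nat.card ι ≤ H668.XZ.kap0 p M T := by
    refine le_kap0 T (ψ := ψ) (c := fun _ => 1) (fun k => FV_ch hM hp2 hf hr hmw hα hs k.1.2 k.2 (by omega) (hkn k))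
      (fun _ h => ?_) (fun k a t => ?_) fun k l hkl χ => ?_
    · have h2 : (p : ℤ) ≤ 1 := Int.le_of_dvd one_pos h
      have h3 := hp.out.one_lt
      omega
    · have hbij := S2119.result m (by omega) (by omega)
      obtain ⟨g, hg⟩ := hbij.2 ((e.symm.trans (MulAut.conjNormal a : MulAut T)).trans e)
      have h3 : f (MulAut.conjNormal a t) = g * f t * g⁻¹ := by
        have h4 := congrArg (fun x : MulAut (alternatingGroup (Fin m)) => ((x (e t) : alternatingGroup (Fin m)) : Equiv.Perm (Fin m))) hg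
        simp only [MulAut.conjNormal_apply] at h4
        change g * (e t : Equiv.Perm (Fin m)) * g⁻¹ = (e (MulAut.conjNormal a (e.symm (e t))) : Equiv.Perm (Fin m)) at h4
        rw [e.symm_apply_apply] at h4
        exact h4.symm
      change ch _ _ (f (MulAut.conjNormal a t)) = ch _ _ (f t)
      rw [h3]
      exact class_gen (isGeneralizedCharacter_ch (α := Fin m) _) (f t) g
    · obtain ⟨β, hβr, hβi, hβs, hβc, ε, hε⟩ := exists_char (f := f) (hinj k) (hsum k)
      obtain ⟨γ, hγr, hγi, hγs, hγc, δ, hδ⟩ := exists_char (f := f) (hinj l) (hsum l)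
      have hkl' : (k.1 : ℕ) ≠ l.1 := fun h => hkl (Subtype.ext (Fin.ext h))
      have h4 : ip (fun t => ch (Fin m) β (f t)) (fun t => ch (Fin m) γ (f t)) = 0 := by
        refine ip_ch_eq_zero hf hr hα hβs hγi hγs ?_ ?_
        · rw [hβr, hγr]
          exact range_bt_ne (by omega) (hkn k) (hkn l) hkl'
        · intro γ₀ γ' h5 h6
          rw [hβr]
          rw [hγr] at h5
          exact range_bt_ne_refl hmw hs hN k.1.2 l.1.2 (hkn k) (hkn l) h5 h6
      change ip (fun t => ch (Fin m) (bt m s (w * p) k.1 (hkn k)) (f t)) _ = 0 ∨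
        ip (fun t => ch (Fin m) (bt m s (w * p) l.1 (hkn l)) (f t)) _ = 0
      rw [hε, hδ, ip_zsmul, ip_zsmul]
      rcases disj_of_orth hβc hγc h4 χ with h5 | h5
      · left
        rw [h5, mul_zero]
      · right
        rw [h5, mul_zero]
  refine le_trans ?_ h1
  -- the number of the indices
  have h2 : p - 1 ≤ Nat.card ι := by
    have h3 : Nat.card {k : Fin p // ¬ (s + k ≠ p)} ≤ 1 := by
      rw [Finite.card_le_one_iff_subsingleton]
      refine ⟨fun a b => Subtype.ext (Fin.ext ?_)⟩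
      have ha := not_not.1 a.2
      have hb := not_not.1 b.2
      omega
    have h4 := Nat.card_congr (Equiv.sumCompl (fun k : Fin p => s + k ≠ p))
    rw [Nat.card_sum, Nat.card_fin] at h4
    change Nat.card ι + _ = p at h4
    omega
  exact h2

/-- **The row.** -/
theorem row0_alt (hM : IsPModular p M) (h7 : 7 ≤ p) {S : Type u} [Group S] [Finite S] {m : ℕ} (h5 : 5 ≤ m)
    (e : S ≃* alternatingGroup (Fin m)) (hP : ∀ P : Sylow p S, ¬ IsCyclic (P : Subgroup S)) : H668.XZ.Row0 p M S := by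
  have hm := H328.KB.two_mul_le h5 e hP
  have hpS : p ∣ Nat.card S := by
    by_contra h
    obtain ⟨P⟩ : Nonempty (Sylow p S) := inferInstance
    refine hP P ?_
    have h1 : Nat.card P = 1 := by
      obtain ⟨k, hk⟩ := IsPGroup.iff_card.1 P.isPGroup'
      rcases Nat.eq_zero_or_pos k with h0 | h0
      · rw [hk, h0, pow_zero]
      · exact absurd ((dvd_pow_self p h0.ne').trans (hk ▸ Subgroup.card_subgroup_dvd_card (P : Subgroup S))) h
    have : Subsingleton P := (Nat.card_eq_one_iff_unique.1 h1).1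
    infer_instance
  refine H668.XZ.row0_of hM hpS fun A _ _ T _ e' _ hcop => ?_
  have h1 := le_kap0_alt hM (by omega) (by omega) hm T (e'.symm.trans e)
  have h2 := H668.XZ.ker_add_kap_le0 T hM hcop
  have h3 := H668.XZ.one_le_ker0 T hM
  refine ⟨p - 2, by omega, ?_, ?_⟩
  · have h4 : p - 2 + 2 = p := by omega
    rw [h4]
    have h5 : 4 * (p - 1) < 4 * p := by omega
    nlinarith
  · obtain ⟨q, hq⟩ : ∃ q, p = q + 1 := ⟨p - 1, by omega⟩
    have h4 : q ≤ H674.XZ.x0 p M A := by omega
    have h5 : q ^ 2 ≤ H674.XZ.x0 p M A ^ 2 := Nat.pow_le_pow_left h4 2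
    have h6 : 4 * (p - 1) < q ^ 2 := by
      have h8 : p - 1 = q := by omega
      have h9 : 6 ≤ q := by omega
      rw [h8]
      nlinarith
    omega

end Cfsg.Agent.H963.XZ
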